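/-
Characteristically simple finite groups.
Main results: `exists_pi_simple` (a non-trivial finite group without proper non-trivial characteristic subgroups is
a power of a simple group in `Type`), `eq_bot_or_top_pi` (a power of a simple group is characteristically simple).
-/
import Cfsg.Agent.S5913

set_option autoImplicit false

namespace Cfsg.Agent.CharSimple

/-- Transfer a finite group to `Type`. -/
theorem exists_type0 (N : Type*) [Group N] [Finite N] :
    ∃ (S : Type) (_ : Group S), Nonempty (N ≃* S) := by
  exact ⟨Shrink.{0} N, inferInstance, ⟨(Shrink.mulEquiv.{0} (α := N)).symm⟩⟩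

theorem characteristic_of_map_le {G : Type*} [Group G] {H : Subgroup G}
    (h : ∀ φ : G ≃* G, H.map φ.toMonoidHom ≤ H) : H.Characteristic :=
  Subgroup.characteristic_iff_map_le.2 h

/-- A non-trivial finite characteristically simple group is a power of a simple group. -/
theorem exists_pi_simple {G : Type*} [Group G] [Finite G] [Nontrivial G]
    (hG : ∀ H : Subgroup G, H.Characteristic → H = ⊥ ∨ H = ⊤) :
    ∃ (S : Type) (_ : Group S) (_ : IsSimpleGroup S) (n : ℕ), 1 ≤ n ∧ Nonempty (G ≃* (Fin n → S)) := by
  classical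
  obtain ⟨N, ⟨hNn, hN0⟩, hNmin⟩ := (Set.toFinite {N : Subgroup G | N.Normal ∧ N ≠ ⊥}).exists_minimal
    ⟨⊤, inferInstance, top_ne_bot⟩
  have hmin : ∀ M : Subgroup G, M.Normal → M ≤ N → M = ⊥ ∨ M = N := fun M hM hMN =>
    or_iff_not_imp_left.2 fun h => le_antisymm hMN (hNmin ⟨hM, h⟩ hMN)
  let img : (G ≃* G) → Subgroup G := fun φ => N.map φ.toMonoidHom
  have himgN : ∀ φ, (img φ).Normal := fun φ => hNn.map _ φ.surjective
  let P : Finset (Subgroup G) → Prop := fun s => (∀ V ∈ s, ∃ φ, img φ = V) ∧ s.sup id = ⊤
  have hP : ∃ s, P s := by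
    refine ⟨(Set.toFinite (Set.range img)).toFinset, fun V hV => by simpa using hV, ?_⟩
    rw [Finset.sup_id_eq_sSup, Set.Finite.coe_toFinset, sSup_range]
    refine (hG _ (characteristic_of_map_le fun ψ => ?_)).resolve_left fun h => hN0 ?_
    · rw [Subgroup.map_iSup]
      refine iSup_le fun φ => le_trans (le_of_eq ?_) (le_iSup _ (φ.trans ψ))
      simp only [img, Subgroup.map_map]
      rfl
    · have := (le_iSup img (MulEquiv.refl G)).trans (le_of_eq h)
      simpa [img] using this
  obtain ⟨s, ⟨hs, hsup⟩, hcard⟩ := Nat.find_spec (p := fun k => ∃ s, P s ∧ s.card = k) ⟨_, hP.choose, hP.choose_spec, rfl⟩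
  have hsmin : ∀ t, P t → s.card ≤ t.card := fun t ht => hcard ▸ Nat.find_min' _ ⟨t, ht, rfl⟩
  have hsN : ∀ V ∈ s, V.Normal := fun V hV => by obtain ⟨φ, rfl⟩ := hs V hV; exact himgN φ
  have hdis : ∀ V ∈ s, V ⊓ (s.erase V).sup id = ⊥ := by
    intro V hV
    obtain ⟨φ, rfl⟩ := hs V hV
    have hn : ((s.erase (img φ)).sup id).Normal :=
      Finset.sup_induction (p := fun H : Subgroup G => H.Normal)
        (Subgroup.Normal.mk fun n hn g => by simp [Subgroup.mem_bot.1 hn])
        (fun a ha b hb => by have := ha; have := hb; exact Subgroup.sup_normal a b)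
        (fun W hW => hsN W (Finset.mem_of_mem_erase hW))
    haveI := himgN φ
    set I := img φ ⊓ (s.erase (img φ)).sup id
    have hI : I.Normal := Subgroup.normal_inf_normal _ _
    rcases hmin (I.comap φ.toMonoidHom) (hI.comap _) (by
        refine (Subgroup.comap_mono inf_le_left).trans (le_of_eq ?_)
        exact Subgroup.comap_map_eq_self_of_injective φ.injective N) with h | h
    · have := congrArg (Subgroup.map φ.toMonoidHom) h
      rwa [Subgroup.map_comap_eq_self_of_surjective φ.surjective, Subgroup.map_bot] at this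
    · exfalso
      have h1 := congrArg (Subgroup.map φ.toMonoidHom) h
      rw [Subgroup.map_comap_eq_self_of_surjective φ.surjective] at h1
      have hle : img φ ≤ (s.erase (img φ)).sup id := inf_eq_left.1 h1
      have : s.sup id = (s.erase (img φ)).sup id := by
        conv_lhs => rw [← Finset.insert_erase hV, Finset.sup_insert]
        exact sup_eq_right.2 hle
      have := hsmin _ ⟨fun W hW => hs W (Finset.mem_of_mem_erase hW), this ▸ hsup⟩
      have := Finset.card_erase_lt_of_mem hV
      omega
  let V : Fin s.card → Subgroup G := fun i => (s.equivFin.symm i : Subgroup G)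
  have hVinj : Function.Injective V := Subtype.val_injective.comp s.equivFin.symm.injective
  have hind : iSupIndep V := by
    intro i
    rw [disjoint_iff, ← le_bot_iff, ← hdis _ (s.equivFin.symm i).2]
    refine inf_le_inf_left _ (iSup₂_le fun j hj => Finset.le_sup (f := id) ?_)
    exact Finset.mem_erase.2 ⟨fun h => hj (hVinj h), (s.equivFin.symm j).2⟩
  have hcomm : Pairwise fun i j => ∀ x y : G, x ∈ V i → y ∈ V j → Commute x y := fun i j hij x y hx hy =>
    Subgroup.commute_of_normal_of_disjoint _ _ (hsN _ (s.equivFin.symm i).2) (hsN _ (s.equivFin.symm j).2)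
      (hind.pairwiseDisjoint hij) x y hx hy
  have hsupV : (⨆ i, V i) = ⊤ := by
    rw [← hsup, Finset.sup_eq_iSup, iSup_subtype', ← s.equivFin.symm.surjective.iSup_comp]
    rfl
  let Φ : (∀ i, V i) ≃* G := MulEquiv.ofBijective (Subgroup.noncommPiCoprod hcomm)
    ⟨Subgroup.injective_noncommPiCoprod_of_iSupIndep hind,
      MonoidHom.range_eq_top.1 (by rw [Subgroup.noncommPiCoprod_range, hsupV])⟩
  have hpos : 1 ≤ s.card := by
    rcases Finset.eq_empty_or_nonempty s with h | h
    · rw [h, Finset.sup_empty] at hsup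
      exact absurd hsup bot_ne_top
    · exact h.card_pos
  -- each factor is simple, hence so is `N`
  obtain ⟨φ, hφ⟩ := hs _ (s.equivFin.symm ⟨0, hpos⟩).2
  haveI : Nontrivial N := (Subgroup.nontrivial_iff_ne_bot N).2 hN0
  haveI : IsSimpleGroup N := by
    refine { eq_bot_or_eq_top_of_normal := fun M hM => ?_ }
    have hnor : ((M.map N.subtype).map φ.toMonoidHom).Normal := by
      rw [← Subgroup.normalizer_eq_top_iff, eq_top_iff, ← hsupV]
      refine iSup_le fun i g hg => Subgroup.mem_normalizer_iff.2 fun y => ?_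
      by_cases hi : i = ⟨0, hpos⟩
      · subst hi
        have hgN : g ∈ img φ := hφ ▸ hg
        obtain ⟨n, hn, rfl⟩ := hgN
        constructor
        · rintro ⟨_, ⟨m, hm, rfl⟩, rfl⟩
          exact ⟨_, ⟨_, hM.conj_mem m hm ⟨n, hn⟩, rfl⟩, by simp⟩
        · rintro ⟨_, ⟨m, hm, rfl⟩, h⟩
          refine ⟨_, ⟨_, hM.conj_mem m hm ⟨n, hn⟩⁻¹, rfl⟩, ?_⟩
          simp only [MulEquiv.coe_toMonoidHom, Subgroup.coe_subtype] at h ⊢
          simp [h, mul_assoc]
      · have key : ∀ y ∈ (M.map N.subtype).map φ.toMonoidHom, g * y * g⁻¹ = y ∧ g⁻¹ * y * g = y := by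
          rintro _ ⟨_, ⟨m, hm, rfl⟩, rfl⟩
          have hmem : φ (m : G) ∈ V ⟨0, hpos⟩ := by
            show φ (m : G) ∈ (s.equivFin.symm ⟨0, hpos⟩ : Subgroup G)
            rw [← hφ]
            exact ⟨(m : G), m.2, rfl⟩
          have hc : Commute g (φ (m : G)) := hcomm hi g _ hg hmem
          constructor
          · show g * φ (m : G) * g⁻¹ = φ (m : G)
            rw [hc.eq, mul_assoc, mul_inv_cancel, mul_one]
          · show g⁻¹ * φ (m : G) * g = φ (m : G)
            rw [mul_assoc, ← hc.eq, ← mul_assoc, inv_mul_cancel, one_mul]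
        constructor
        · intro hy; rw [(key y hy).1]; exact hy
        · intro hy
          have := (key _ hy).2
          rw [show g⁻¹ * (g * y * g⁻¹) * g = y by group] at this
          rwa [← this] at hy
    have hM' : (M.map N.subtype).Normal := by
      have := hnor.comap φ.toMonoidHom
      rwa [Subgroup.comap_map_eq_self_of_injective φ.injective] at this
    rcases hmin _ hM' (Subgroup.map_subtype_le M) with h | h
    · left
      exact (Subgroup.map_eq_bot_iff_of_injective M N.subtype_injective).1 h
    · right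
      refine eq_top_iff.2 fun x _ => ?_
      obtain ⟨y, hy, hyx⟩ := h.ge x.2
      rwa [← Subtype.ext hyx]
  obtain ⟨S, hS, ⟨eS⟩⟩ := exists_type0 N
  haveI : Nontrivial S := eS.symm.toEquiv.nontrivial
  haveI : IsSimpleGroup S := IsSimpleGroup.isSimpleGroup_of_surjective eS.toMonoidHom eS.surjective
  have heq : ∀ i, ∃ ψ : G ≃* G, img ψ = V i := fun i => hs _ (s.equivFin.symm i).2
  refine ⟨S, hS, inferInstance, s.card, hpos, ⟨Φ.symm.trans (MulEquiv.piCongrRight fun i => ?_)⟩⟩
  exact ((MulEquiv.subgroupCongr (heq i).choose_spec).symm.trans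
    ((heq i).choose.subgroupMap N).symm).trans eS

/-- A power of a simple group is characteristically simple. -/
theorem eq_bot_or_top_pi {S : Type*} [Group S] [IsSimpleGroup S] {n : ℕ}
    (H : Subgroup (Fin n → S)) [hH : H.Characteristic] : H = ⊥ ∨ H = ⊤ := by
  classical
  rw [or_iff_not_imp_left]
  intro hH0
  obtain ⟨x, hx, hx1⟩ := H.bot_or_exists_ne_one.resolve_left hH0
  obtain ⟨i, hi⟩ : ∃ i, x i ≠ 1 := Function.ne_iff.1 hx1
  have perm : ∀ (σ : Equiv.Perm (Fin n)) (y : Fin n → S), y ∈ H → (fun j => y (σ j)) ∈ H := by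
    intro σ y hy
    let φ : (Fin n → S) ≃* (Fin n → S) :=
      { toFun := fun y j => y (σ j)
        invFun := fun y j => y (σ.symm j)
        left_inv := fun y => funext fun j => by simp
        right_inv := fun y => funext fun j => by simp
        map_mul' := fun _ _ => rfl }
    have := Subgroup.characteristic_iff_map_le.1 hH φ
    exact this ⟨y, hy, rfl⟩
  suffices key : ∀ j, ∀ t : S, Pi.mulSingle j t ∈ H by
    refine eq_top_iff.2 fun y _ => ?_
    suffices H' : ∀ u : Finset (Fin n), ∀ y : Fin n → S, (∀ i, i ∉ u → y i = 1) → y ∈ H from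
      H' Finset.univ y fun i hi => absurd (Finset.mem_univ i) hi
    intro u
    induction u using Finset.induction_on with
    | empty =>
      intro y hy
      rw [show y = 1 from funext fun i => hy i (by simp)]
      exact H.one_mem
    | insert k u hku ih =>
      intro y hy
      have hsplit : y = Pi.mulSingle k (y k) * Function.update y k 1 := by
        ext j
        by_cases hj : j = k
        · subst hj; simp
        · simp [Pi.mulSingle_eq_of_ne hj, Function.update_of_ne hj]
      rw [hsplit]
      refine H.mul_mem (key k _) (ih _ fun j hj => ?_)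
      by_cases hjk : j = k
      · subst hjk; simp
      · rw [Function.update_of_ne hjk]
        exact hy j (by simp [hjk, hj])
  suffices hexists : ∃ j, ∃ c : S, c ≠ 1 ∧ Pi.mulSingle j c ∈ H by
    obtain ⟨j, c, hc, hjc⟩ := hexists
    have htop : H.comap (MonoidHom.mulSingle (fun _ : Fin n => S) j) = ⊤ :=
      (IsSimpleGroup.eq_bot_or_eq_top_of_normal _ (Subgroup.Normal.comap inferInstance _)).resolve_left fun h => hc (by
        have : c ∈ H.comap (MonoidHom.mulSingle (fun _ : Fin n => S) j) := hjc
        rwa [h, Subgroup.mem_bot] at this)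
    intro k t
    have ht : Pi.mulSingle j t ∈ H := show t ∈ H.comap (MonoidHom.mulSingle (fun _ : Fin n => S) j) from htop ▸ trivial
    have := perm (Equiv.swap j k) _ ht
    convert this using 1
    ext l
    rcases eq_or_ne l k with rfl | hlk
    · simp
    · rw [Pi.mulSingle_eq_of_ne hlk, Pi.mulSingle_eq_of_ne (fun h => hlk (by
        have := congrArg (Equiv.swap j k) h; simpa using this))]
  by_cases hcomm : IsMulCommutative S
  · -- a shear isolates one coordinate
    have hmc : ∀ a b : S, a * b = b * a := fun a b => hcomm.is_comm.comm a b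
    by_cases hsing : ∀ j, j ≠ i → x j = 1
    · exact ⟨i, x i, hi, by
        convert hx using 1
        ext j
        rcases eq_or_ne j i with rfl | h
        · simp
        · rw [Pi.mulSingle_eq_of_ne h, hsing j h]⟩
    push Not at hsing
    obtain ⟨j, hji, -⟩ := hsing
    let φ : (Fin n → S) ≃* (Fin n → S) :=
      { toFun := fun y => Pi.mulSingle j (y i) * y
        invFun := fun y => Pi.mulSingle j (y i)⁻¹ * y
        left_inv := fun y => by
          ext l; rcases eq_or_ne l j with rfl | h
          · simp [Pi.mulSingle_eq_of_ne hji.symm]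
          · simp [Pi.mulSingle_eq_of_ne h, Pi.mulSingle_eq_of_ne hji.symm]
        right_inv := fun y => by
          ext l; rcases eq_or_ne l j with rfl | h
          · simp [Pi.mulSingle_eq_of_ne hji.symm]
          · simp [Pi.mulSingle_eq_of_ne h, Pi.mulSingle_eq_of_ne hji.symm]
        map_mul' := fun y z => by
          ext l; rcases eq_or_ne l j with rfl | h
          · simp only [Pi.mul_apply, Pi.mulSingle_eq_same]
            calc y i * z i * (y l * z l) = y i * (z i * y l) * z l := by simp [mul_assoc]
              _ = y i * (y l * z i) * z l := by rw [hmc (z i) (y l)]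
              _ = _ := by simp [mul_assoc]
          · simp [Pi.mulSingle_eq_of_ne h] }
    have h2 : φ x ∈ H := (Subgroup.characteristic_iff_map_le.1 hH φ) ⟨x, hx, rfl⟩
    refine ⟨j, x i, hi, ?_⟩
    have := H.mul_mem h2 (H.inv_mem hx)
    rwa [show φ x * x⁻¹ = Pi.mulSingle j (x i) from mul_inv_cancel_right _ _] at this
  · obtain ⟨T, hT⟩ := Cfsg.Agent.S5913.result hcomm n H
    have hiT : i ∈ T := by by_contra h; exact hi ((hT x).1 hx i h)
    exact ⟨i, x i, hi, (hT _).2 fun l hl => Pi.mulSingle_eq_of_ne (fun h : l = i => hl (h ▸ hiT)) _⟩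

end Cfsg.Agent.CharSimple
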